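import Mathlib
import Cfsg.Agent.Lib.Helper48.SpExist

set_option autoImplicit false

universe u

namespace Cfsg.Agent.Lib.Helper99.PGB

open Module LinearMap Cfsg.Agent.Lib.Helper48

/-- some nondegenerate symmetric bilinear space of dimension `d` over `F` has an isometry of order
exactly `K`. -/
def OR (F : Type u) [Field F] (d K : ℕ) : Prop :=
  ∃ (V : Type u) (_ : AddCommGroup V) (_ : Module F V) (_ : FiniteDimensional F V)
    (S : LinearMap.BilinForm F V) (T : End F V),
    finrank F V = d ∧ (∀ x y, S x y = S y x) ∧ (∀ x, (∀ y, S x y = 0) → x = 0) ∧ IsoB S T ∧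
    ∀ j, T ^ j = 1 ↔ K ∣ j

/-- some nondegenerate alternating bilinear space of dimension `d` over `F` has an isometry of order
exactly `K`. -/
def AR (F : Type u) [Field F] (d K : ℕ) : Prop :=
  ∃ (V : Type u) (_ : AddCommGroup V) (_ : Module F V) (_ : FiniteDimensional F V)
    (S : LinearMap.BilinForm F V) (T : End F V),
    finrank F V = d ∧ (∀ x, S x x = 0) ∧ (∀ x, (∀ y, S x y = 0) → x = 0) ∧ IsoB S T ∧
    ∀ j, T ^ j = 1 ↔ K ∣ j

/-- the numerical condition `η(ord_r q) ≤ n - 1`. -/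
def Er (q n r : ℕ) : Prop := ∃ i, 1 ≤ i ∧ i ≤ n - 1 ∧ r ∣ q ^ (2 * i) - 1

end Cfsg.Agent.Lib.Helper99.PGB
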