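import Mathlib
import Cfsg.Agent.Lib.Helper99.PGB.Defs
import Cfsg.Agent.Lib.Helper99.SPD.Core

set_option autoImplicit false

universe u

namespace Cfsg.Agent.Lib.Helper99.PGB

open Module LinearMap Cfsg.Agent.Lib.Helper48 Cfsg.Agent.Lib.Helper99.SPD

section res
variable {F : Type u} [Field F] {V : Type u} [AddCommGroup V] [Module F V]

theorem restrict_pow_apply (T : End F V) (U : Submodule F V) (hinv : ∀ x ∈ U, T x ∈ U) (j : ℕ)
    (y : U) : ((((T.restrict hinv : End F U) ^ j) y : U) : V) = (T ^ j) y := by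
  induction j generalizing y with
  | zero => simp
  | succ j ih =>
    rw [pow_succ, Module.End.mul_apply, ih, pow_succ, Module.End.mul_apply]
    rfl

theorem restrict_pow_eq_one_iff (T : End F V) (U : Submodule F V) (hinv : ∀ x ∈ U, T x ∈ U)
    (j : ℕ) : (T.restrict hinv : End F U) ^ j = 1 ↔ ∀ w ∈ U, (T ^ j) w = w := by
  constructor
  · intro h w hw
    have := restrict_pow_apply T U hinv j ⟨w, hw⟩
    rw [h] at this
    exact this.symm
  · intro h
    apply LinearMap.ext
    intro y
    apply Subtype.ext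
    rw [restrict_pow_apply, h _ y.2]
    rfl

/-- RES -/
theorem res_OR [FiniteDimensional F V] (S : LinearMap.BilinForm F V) (U : Submodule F V)
    (hsymm : ∀ x y, S x y = S y x) (hnd : ∀ x ∈ U, (∀ y ∈ U, S x y = 0) → x = 0)
    (T : End F V) (hT : IsoB S T) (hinv : ∀ x ∈ U, T x ∈ U) {K : ℕ}
    (hK : ∀ j, (∀ w ∈ U, (T ^ j) w = w) ↔ K ∣ j) : OR F (finrank F U) K := by
  refine ⟨U, inferInstance, inferInstance, inferInstance, S.restrict U, T.restrict hinv, rfl,
    fun x y => hsymm _ _, ?_, fun x y => hT _ _, ?_⟩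
  · intro x hx
    apply Subtype.ext
    exact hnd x.1 x.2 (fun y hy => hx ⟨y, hy⟩)
  · intro j
    rw [restrict_pow_eq_one_iff, hK]

theorem res_AR [FiniteDimensional F V] (S : LinearMap.BilinForm F V) (U : Submodule F V)
    (halt : ∀ x, S x x = 0) (hnd : ∀ x ∈ U, (∀ y ∈ U, S x y = 0) → x = 0)
    (T : End F V) (hT : IsoB S T) (hinv : ∀ x ∈ U, T x ∈ U) {K : ℕ}
    (hK : ∀ j, (∀ w ∈ U, (T ^ j) w = w) ↔ K ∣ j) : AR F (finrank F U) K := by
  refine ⟨U, inferInstance, inferInstance, inferInstance, S.restrict U, T.restrict hinv, rfl,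
    fun x => halt _, ?_, fun x y => hT _ _, ?_⟩
  · intro x hx
    apply Subtype.ext
    exact hnd x.1 x.2 (fun y hy => hx ⟨y, hy⟩)
  · intro j
    rw [restrict_pow_eq_one_iff, hK]

end res

section adj
variable {F V : Type*} [Field F] [AddCommGroup V] [Module F V]

theorem adj_left {B : LinearMap.BilinForm F V} {x x' : End F V} (hx : IsoB B x) (h : x * x' = 1)
    (v w : V) : B (x v) w = B v (x' w) := by
  have : w = x (x' w) := by rw [← Module.End.mul_apply, h, Module.End.one_apply]
  conv_lhs => rw [this]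
  exact hx _ _

theorem adj_right {B : LinearMap.BilinForm F V} {x x' : End F V} (hx : IsoB B x) (h : x * x' = 1)
    (v w : V) : B (x' v) w = B v (x w) := by
  have : v = x (x' v) := by rw [← Module.End.mul_apply, h, Module.End.one_apply]
  conv_rhs => rw [this]
  exact (hx _ _).symm

/-- `x - x'` is skew-adjoint. -/
theorem adj_psi {B : LinearMap.BilinForm F V} {x x' : End F V} (hx : IsoB B x) (h : x * x' = 1)
    (v w : V) : B ((x - x') v) w = - B v ((x - x') w) := by
  simp only [LinearMap.sub_apply, map_sub, adj_left hx h, adj_right hx h]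
  abel

/-- `x + x'` is self-adjoint. -/
theorem adj_add {B : LinearMap.BilinForm F V} {x x' : End F V} (hx : IsoB B x) (h : x * x' = 1)
    (v w : V) : B ((x + x') v) w = B v ((x + x') w) := by
  simp only [LinearMap.add_apply, map_add, adj_left hx h, adj_right hx h]
  abel

/-- odd order: `x² v = v → x v = v`. -/
theorem fixed_of_sq_fixed {x : End F V} {k : ℕ} (hk : Odd k) (hxk : x ^ k = 1) {v : V}
    (hv : x (x v) = v) : x v = v := by
  obtain ⟨l, rfl⟩ := hk
  have h1 : ∀ j : ℕ, (x ^ (2 * j)) v = v := by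
    intro j
    induction j with
    | zero => simp
    | succ j ih =>
      rw [mul_add, mul_one, pow_add, Module.End.mul_apply, pow_two, Module.End.mul_apply, hv, ih]
  have h2 : (x ^ (2 * l + 1)) v = x v := by
    rw [pow_succ', Module.End.mul_apply, h1]
  rw [← h2, hxk, Module.End.one_apply]

end adj

/-- TR -/
theorem transfer {F : Type u} [Field F] {V : Type u} [AddCommGroup V] [Module F V]
    [FiniteDimensional F V] (h2 : (2 : F) ≠ 0) (B : LinearMap.BilinForm F V)
    (hnd : ∀ x, (∀ y, B x y = 0) → x = 0) (x T : End F V) (hx : IsoB B x) (hT : IsoB B T)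
    (hc : Commute x T) {k : ℕ} (hk : Odd k) (hkF : (k : F) ≠ 0) (hxk : x ^ k = 1) {K : ℕ}
    (hK : ∀ j, (∀ w ∈ range (x - 1), (T ^ j) w = w) ↔ K ∣ j) :
    ((∀ v, B v v = 0) → OR F (finrank F (range (x - 1))) K) ∧
    ((∀ v w, B v w = B w v) → AR F (finrank F (range (x - 1))) K) := by
  obtain ⟨k', rfl⟩ : ∃ k', k = k' + 1 := ⟨k - 1, by obtain ⟨l, rfl⟩ := hk; omega⟩
  set x' := x ^ k' with hx'
  have hxx' : x * x' = 1 := by rw [hx', ← pow_succ', hxk]
  set ψ := x - x' with hψ
  let Bψ : LinearMap.BilinForm F V := B.comp ψ LinearMap.id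
  have hBψ : ∀ v w, Bψ v w = B (ψ v) w := fun _ _ => rfl
  have hadj : ∀ v w, B (ψ v) w = - B v (ψ w) := adj_psi hx hxx'
  have hKc := isCompl_ker_range x hkF hxk
  have hψT : Commute ψ T := by
    rw [hψ, hx']
    exact hc.sub_left (hc.pow_left k')
  have hiso : IsoB Bψ T := by
    intro v w
    rw [hBψ, hBψ]
    have : ψ (T v) = T (ψ v) := by
      rw [← Module.End.mul_apply, hψT.eq, Module.End.mul_apply]
    rw [this, hT]
  have hinv : ∀ w ∈ range (x - 1), T w ∈ range (x - 1) := fun w hw => range_inv hc hw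
  have hψC : ∀ c ∈ ker (x - 1), ψ c = 0 := by
    intro c hc'
    have h1 : x c = c := mem_ker_sub_one.1 hc'
    rw [hψ, LinearMap.sub_apply, hx', pow_apply_fixed h1, h1, sub_self]
  have hndW : ∀ v ∈ range (x - 1), (∀ w ∈ range (x - 1), Bψ v w = 0) → v = 0 := by
    intro v hv hvw
    have h1 : ψ v = 0 := by
      apply hnd
      intro y
      have : y ∈ ker (x - 1) ⊔ range (x - 1) := by rw [hKc.sup_eq_top]; exact Submodule.mem_top
      obtain ⟨c, hc', w, hw, rfl⟩ := Submodule.mem_sup.1 this
      rw [map_add, hadj v c, hψC c hc', map_zero, neg_zero, zero_add]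
      exact hvw w hw
    have h3 : x (x v) = v := by
      rw [hψ, LinearMap.sub_apply, sub_eq_zero] at h1
      rw [h1, ← Module.End.mul_apply, hxx', Module.End.one_apply]
    have h4 : x v = v := fixed_of_sq_fixed hk hxk h3
    have : v ∈ ker (x - 1) ⊓ range (x - 1) := ⟨mem_ker_sub_one.2 h4, hv⟩
    rw [hKc.inf_eq_bot] at this
    exact this
  constructor
  · intro halt
    have hskew : ∀ v w, B v w = - B w v := by
      intro v w
      have := halt (v + w)
      simp only [map_add, LinearMap.add_apply, halt, zero_add, add_zero] at this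
      exact eq_neg_of_add_eq_zero_right this
    apply res_OR Bψ (range (x - 1)) _ hndW T hiso hinv hK
    intro v w
    rw [hBψ, hBψ, hadj, hskew v (ψ w), neg_neg]
  · intro hsymm
    apply res_AR Bψ (range (x - 1)) _ hndW T hiso hinv hK
    intro v
    have h1 := hadj v v
    rw [hsymm v (ψ v)] at h1
    have h3 : (2 : F) * B (ψ v) v = 0 := by linear_combination h1
    exact (mul_eq_zero.1 h3).resolve_left h2

end Cfsg.Agent.Lib.Helper99.PGB
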