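import Mathlib
import Cfsg.Agent.Lib.Helper99.PGB.Defs
import Cfsg.Agent.Lib.Helper99.SPD.KP
import Cfsg.Agent.Lib.Helper48.JordanForm

set_option autoImplicit false

universe u

namespace Cfsg.Agent.Lib.Helper99.PGB

open Module LinearMap Cfsg.Agent.Lib.Helper48 Cfsg.Agent.Lib.Helper99.SPD

/-- EV : if `B (θ v) v = 0` for all `v` and `B` is nondegenerate, `θ` has even rank. -/
theorem even_rank {F V : Type*} [Field F] [AddCommGroup V] [Module F V]
    [FiniteDimensional F V] (B : LinearMap.BilinForm F V) (hnd : ∀ x, (∀ y, B x y = 0) → x = 0)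
    (θ : End F V) (halt : ∀ v, B (θ v) v = 0) : Even (finrank F (range θ)) := by
  let A : LinearMap.BilinForm F V := B.comp θ LinearMap.id
  have hA : ∀ v w, A v w = B (θ v) w := fun _ _ => rfl
  have hAalt : A.IsAlt := fun v => halt v
  have h1 := even_finrank_add_finrank_ker_of_isAlt A hAalt
  have h2 : ker A = ker θ := by
    ext v
    rw [LinearMap.mem_ker, LinearMap.mem_ker]
    constructor
    · intro h
      apply hnd
      intro y
      rw [← hA, h]
      rfl
    · intro h
      apply LinearMap.ext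
      intro y
      rw [hA, h]
      simp
  rw [h2] at h1
  have h3 := LinearMap.finrank_range_add_finrank_ker θ
  rw [← h3] at h1
  have h4 : finrank F (range θ) + finrank F (ker θ) + finrank F (ker θ) =
      finrank F (range θ) + 2 * finrank F (ker θ) := by ring
  rw [h4] at h1
  exact (Nat.even_add.1 h1).2 (even_two_mul _)

/-- ER -/
theorem ER {F V : Type*} [Field F] [Fintype F] [AddCommGroup V] [Module F V]
    [FiniteDimensional F V] (B : LinearMap.BilinForm F V) (hnd : ∀ x, (∀ y, B x y = 0) → x = 0)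
    {r n : ℕ} (hr : r.Prime) (hrq : ¬ r ∣ Fintype.card F) (x θ : End F V) (hxr : x ^ r = 1)
    (hc : Commute x θ) (hθW : ∀ v, θ v ∈ range (x - 1)) (halt : ∀ v, B (θ v) v = 0) (hθ0 : θ ≠ 0)
    (hrank : finrank F (range θ) < 2 * n) : Er (Fintype.card F) n r := by
  have : Fact r.Prime := ⟨hr⟩
  obtain ⟨i, hi⟩ := even_rank B hnd θ halt
  have hrF : (r : F) ≠ 0 := Cfsg.Agent.Lib.Helper99.PG.natCast_ne_zero_of_not_dvd hr hrq
  have hK := isCompl_ker_range x hrF hxr
  have hi0 : i ≠ 0 := by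
    rintro rfl
    apply hθ0
    have h1 : range θ = ⊥ := Submodule.finrank_eq_zero.1 (by rw [hi])
    exact LinearMap.range_eq_bot.1 h1
  refine ⟨i, by omega, by omega, ?_⟩
  have h1 := Cfsg.Agent.Lib.Helper65.UnipCent.modEq_of_invariant x hxr (range θ) (by
    rintro _ ⟨y, rfl⟩
    refine ⟨x y, ?_⟩
    rw [← Module.End.mul_apply, ← hc.eq, Module.End.mul_apply])
  have h2 : range θ ⊓ ker (x - 1) = ⊥ := by
    rw [eq_bot_iff]
    rintro v ⟨⟨y, rfl⟩, hv⟩
    have : θ y ∈ ker (x - 1) ⊓ range (x - 1) := ⟨hv, hθW y⟩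
    rw [hK.inf_eq_bot] at this
    exact this
  rw [h2, finrank_bot, pow_zero, hi, ← two_mul] at h1
  exact (Nat.modEq_iff_dvd' (Nat.one_le_pow _ _ Fintype.card_pos)).1 h1.symm

end Cfsg.Agent.Lib.Helper99.PGB
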