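import Mathlib
import Cfsg.Agent.Lib.Helper99.PGB.TR
import Cfsg.Agent.Lib.Helper99.PGB.ER

set_option autoImplicit false

universe u

namespace Cfsg.Agent.Lib.Helper99.PGB

open Module LinearMap Cfsg.Agent.Lib.Helper48 Cfsg.Agent.Lib.Helper99.SPD

section gen
variable {F V : Type*} [Field F] [AddCommGroup V] [Module F V]

theorem unip_fixed_of_sq_fixed (h2 : (2 : F) ≠ 0) {u : End F V} (hnil : IsNilpotent (u - 1))
    {w : V} (hw : u (u w) = w) : u w = w := by
  set y := u w - w with hy
  have h1 : u y = -y := by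
    rw [hy, map_sub, hw]
    abel
  have h3 : ∀ k : ℕ, ((u - 1) ^ k) y = ((-2 : F) ^ k) • y := by
    intro k
    induction k with
    | zero => simp
    | succ k ih =>
      rw [pow_succ, Module.End.mul_apply, LinearMap.sub_apply, Module.End.one_apply, h1]
      have : -y - y = (-2 : F) • y := by
        rw [neg_smul, two_smul]
        abel
      rw [this, map_smul, ih, smul_smul, pow_succ, mul_comm]
  obtain ⟨k, hk⟩ := hnil
  have h4 := h3 k
  rw [hk, LinearMap.zero_apply] at h4
  have h5 : y = 0 := (smul_eq_zero.1 h4.symm).resolve_left (pow_ne_zero _ (neg_ne_zero.2 h2))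
  exact sub_eq_zero.1 h5

/-- data attached to an isometry `x` of odd order -/
theorem mu_eq {x x' : End F V} (h : x * x' = 1) : x + x' - 2 = (x - 1) * (1 - x') := by
  have : (x - 1) * (1 - x') = x - x * x' - 1 + x' := by noncomm_ring
  rw [this, h]
  have h2 : (2 : End F V) = 1 + 1 := by norm_num
  rw [h2]
  abel

theorem psi_eq {x x' : End F V} (h : x * x' = 1) : x - x' = (x - 1) * (1 + x') := by
  have : (x - 1) * (1 + x') = x + x * x' - 1 - x' := by noncomm_ring
  rw [this, h]
  abel

theorem adj_mu {B : LinearMap.BilinForm F V} {x x' : End F V} (hx : IsoB B x) (h : x * x' = 1)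
    (v w : V) : B ((x + x' - 2) v) w = B v ((x + x' - 2) w) := by
  have h2 : ∀ z : V, (2 : End F V) z = (2 : F) • z := by
    intro z
    have : (2 : End F V) = 1 + 1 := by norm_num
    rw [this, LinearMap.add_apply, Module.End.one_apply, two_smul]
  rw [LinearMap.sub_apply, LinearMap.sub_apply, map_sub, LinearMap.sub_apply, map_sub,
    adj_add hx h, h2, h2, map_smul, map_smul, LinearMap.smul_apply]

theorem fixed_inv {x x' : End F V} (h' : x' * x = 1) {c : V} (hc : x c = c) : x' c = c := by
  conv_lhs => rw [← hc]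
  rw [← Module.End.mul_apply, h', Module.End.one_apply]

theorem fixed_of_inv {x x' : End F V} (h : x * x' = 1) {c : V} (hc : x' c = c) : x c = c := by
  conv_lhs => rw [← hc]
  rw [← Module.End.mul_apply, h, Module.End.one_apply]

theorem commute_inv {x x' f : End F V} (h : x * x' = 1) (h' : x' * x = 1) (hc : Commute x f) :
    Commute x' f := by
  have h1 : x' * f = x' * f * (x * x') := by rw [h, mul_one]
  have h2 : x' * f * (x * x') = x' * (f * x) * x' := by noncomm_ring
  have h3 : x' * (x * f) * x' = (x' * x) * f * x' := by noncomm_ring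
  change x' * f = f * x'
  rw [h1, h2, ← hc.eq, h3, h', one_mul]

/-- `x + x' - 2` is injective on `range (x - 1)`. -/
theorem mu_inj {x x' : End F V} (h : x * x' = 1) (h' : x' * x = 1)
    (hK : IsCompl (ker (x - 1)) (range (x - 1))) {y : V} (hy : y ∈ range (x - 1))
    (hμ : (x + x' - 2) y = 0) : y = 0 := by
  rw [mu_eq h, Module.End.mul_apply] at hμ
  have hcx' : Commute x x' := by change x * x' = x' * x; rw [h, h']
  have h1 : (1 - x') y ∈ range (x - 1) := by
    rw [LinearMap.sub_apply, Module.End.one_apply]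
    exact (range (x - 1)).sub_mem hy (range_inv hcx' hy)
  have h2 : (1 - x') y ∈ ker (x - 1) ⊓ range (x - 1) := ⟨hμ, h1⟩
  rw [hK.inf_eq_bot, Submodule.mem_bot, LinearMap.sub_apply, Module.End.one_apply,
    sub_eq_zero] at h2
  have h3 : y ∈ ker (x - 1) ⊓ range (x - 1) := ⟨mem_ker_sub_one.2 (fixed_of_inv h h2.symm), hy⟩
  rw [hK.inf_eq_bot] at h3
  exact h3

theorem exists_dec {x : End F V} (hK : IsCompl (ker (x - 1)) (range (x - 1))) (v : V) :
    ∃ a ∈ ker (x - 1), ∃ b ∈ range (x - 1), a + b = v := by
  have : v ∈ ker (x - 1) ⊔ range (x - 1) := by rw [hK.sup_eq_top]; exact Submodule.mem_top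
  exact Submodule.mem_sup.1 this

end gen

/-- UP : `p r` in the orthogonal group forces `Er` -/
theorem Er_of_unip {F V : Type*} [Field F] [Fintype F] [AddCommGroup V] [Module F V]
    [FiniteDimensional F V] (h2 : (2 : F) ≠ 0) (S : LinearMap.BilinForm F V)
    (hsymm : ∀ x y, S x y = S y x) (hnd : ∀ x, (∀ y, S x y = 0) → x = 0) {n r : ℕ}
    (hdim : finrank F V = 2 * n + 1) (hr : r.Prime) (hr2 : r ≠ 2) (hrq : ¬ r ∣ Fintype.card F)
    (x u u' : End F V) (hx : IsoB S x) (hu : IsoB S u) (hc : Commute x u) (hxr : x ^ r = 1)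
    (hx1 : x ≠ 1) (huu' : u * u' = 1) (hu'u : u' * u = 1) (hnil : IsNilpotent (u - 1))
    (hu1 : u ≠ 1) : Er (Fintype.card F) n r := by
  have hrodd : Odd r := hr.odd_of_ne_two hr2
  have hrF : (r : F) ≠ 0 := Cfsg.Agent.Lib.Helper99.PG.natCast_ne_zero_of_not_dvd hr hrq
  obtain ⟨r', hr'⟩ : ∃ r', r = r' + 1 := ⟨r - 1, by have := hr.pos; omega⟩
  set x' := x ^ r' with hx'
  have hxx' : x * x' = 1 := by rw [hx', ← pow_succ', ← hr', hxr]
  have hx'x : x' * x = 1 := by rw [hx', ← pow_succ, ← hr', hxr]
  have hK := isCompl_ker_range x hrF hxr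
  have hcx' : Commute x x' := by change x * x' = x' * x; rw [hxx', hx'x]
  have hcu' : Commute x u' := (commute_inv huu' hu'u hc.symm).symm
  set μ := x + x' - 2 with hμ
  set τ := u - u' with hτ
  set ψ := x - x' with hψ
  have hxμ : Commute x μ := by
    rw [hμ]
    exact ((Commute.refl x).add_right hcx').sub_right (Commute.ofNat_right x 2)
  have hxτ : Commute x τ := hc.sub_right hcu'
  have hx'τ : Commute x' τ := commute_inv hxx' hx'x hxτ
  have hμτ : Commute μ τ := by
    rw [hμ]
    exact (hxτ.add_left hx'τ).sub_left (Commute.ofNat_left 2 τ)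
  have hskew : ∀ (θ : End F V), (∀ v w, S (θ v) w = - S v (θ w)) → ∀ v, S (θ v) v = 0 := by
    intro θ hθ v
    have h1 := hθ v v
    rw [hsymm v (θ v)] at h1
    have h3 : (2 : F) * S (θ v) v = 0 := by linear_combination h1
    exact (mul_eq_zero.1 h3).resolve_left h2
  have hψskew : ∀ v, S (ψ v) v = 0 := hskew ψ (adj_psi hx hxx')
  have hψW : ∀ v, ψ v ∈ range (x - 1) := by
    intro v
    rw [hψ, psi_eq hxx', Module.End.mul_apply]
    exact LinearMap.mem_range_self _ _
  have hψ0 : ψ ≠ 0 := by
    intro h0
    apply hx1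
    apply LinearMap.ext
    intro v
    have h1 : x v = x' v := by
      have := congrArg (fun f : End F V => f v) h0
      simpa [hψ, sub_eq_zero] using this
    rw [Module.End.one_apply]
    apply fixed_of_sq_fixed hrodd hxr
    rw [h1, ← Module.End.mul_apply, hxx', Module.End.one_apply]
  have hxψ : Commute x ψ := (Commute.refl x).sub_right hcx'
  set θ := μ * τ with hθ
  have hθskew : ∀ v, S (θ v) v = 0 := by
    apply hskew
    intro v w
    rw [hθ, Module.End.mul_apply, adj_mu hx hxx', adj_psi hu huu', ← Module.End.mul_apply,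
      ← hμτ.eq]
  have hθW : ∀ v, θ v ∈ range (x - 1) := by
    intro v
    rw [hθ, hμ, mu_eq hxx', mul_assoc, Module.End.mul_apply]
    exact LinearMap.mem_range_self _ _
  have hxθ : Commute x θ := hxμ.mul_right hxτ
  have hWne : range (x - 1) ≠ ⊥ := by
    intro h
    rw [LinearMap.range_eq_bot, sub_eq_zero] at h
    exact hx1 h
  by_cases hθ0 : θ = 0
  · -- u is trivial on W
    have huW : ∀ w ∈ range (x - 1), u w = w := by
      intro w hw
      have h1 : τ w ∈ range (x - 1) := range_inv hxτ hw
      have h3 : τ w = 0 := by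
        apply mu_inj hxx' hx'x hK h1
        rw [← Module.End.mul_apply, ← hμ, ← hθ, hθ0]
        rfl
      apply unip_fixed_of_sq_fixed h2 hnil
      rw [hτ, LinearMap.sub_apply, sub_eq_zero] at h3
      rw [h3, ← Module.End.mul_apply, huu', Module.End.one_apply]
    have hCdim : 3 ≤ finrank F (ker (x - 1)) := by
      by_contra hcon
      apply hu1
      have h1 : ∀ c ∈ ker (x - 1), u c = c := by
        apply unip_trivial_of_dim_le_two h2 S hsymm u hu hnil _ (by omega)
        · intro c hc'
          exact ker_inv hc hc'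
        · intro c hc' hcc
          apply hnd
          intro v
          obtain ⟨a, ha, b, hb, rfl⟩ := exists_dec hK v
          rw [map_add, hcc a ha, orth_ker_range hx hc' hb, add_zero]
      apply LinearMap.ext
      intro v
      obtain ⟨a, ha, b, hb, rfl⟩ := exists_dec hK v
      rw [map_add, h1 a ha, huW b hb, Module.End.one_apply]
    apply ER S hnd hr hrq x ψ hxr hxψ hψW hψskew hψ0
    have h1 : finrank F (range ψ) ≤ finrank F (range (x - 1)) := by
      apply Submodule.finrank_mono
      rintro _ ⟨v, rfl⟩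
      exact hψW v
    have h3 := LinearMap.finrank_range_add_finrank_ker (x - 1)
    omega
  · apply ER S hnd hr hrq x θ hxr hxθ hθW hθskew hθ0
    -- kernel of θ has dimension at least 2
    have hnilθ : IsNilpotent θ := by
      have h1 : τ = (u - 1) * (1 + u') := by rw [hτ, psi_eq huu']
      have hcuu' : Commute u u' := by change u * u' = u' * u; rw [huu', hu'u]
      have h3 : IsNilpotent τ := by
        rw [h1]
        apply Commute.isNilpotent_mul_right _ hnil
        exact ((Commute.one_right u).add_right hcuu').sub_left (Commute.one_left _)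
      rw [hθ]
      exact Commute.isNilpotent_mul_left hμτ h3
    obtain ⟨a, ha, ha0⟩ := Submodule.exists_mem_ne_zero_of_ne_bot hWne
    obtain ⟨w, hw, hw0, hθw⟩ := exists_last hnilθ (W := range (x - 1)) (fun v _ => hθW v) ha ha0
    have hψker : ker ψ ≠ ⊥ := by
      intro h
      have h1 := even_rank S hnd ψ hψskew
      have h3 := LinearMap.finrank_range_add_finrank_ker ψ
      rw [h, finrank_bot, add_zero, hdim] at h3
      rw [h3] at h1
      exact (Nat.not_even_iff_odd.2 ⟨n, rfl⟩) h1
    obtain ⟨c, hc', hc0⟩ := Submodule.exists_mem_ne_zero_of_ne_bot hψker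
    have hxc : x c = c := by
      apply fixed_of_sq_fixed hrodd hxr
      rw [LinearMap.mem_ker, hψ, LinearMap.sub_apply, sub_eq_zero] at hc'
      rw [hc', ← Module.End.mul_apply, hxx', Module.End.one_apply]
    have hθc : θ c = 0 := by
      have h1 : (1 - x') c = 0 := by
        rw [LinearMap.sub_apply, Module.End.one_apply, fixed_inv hx'x hxc, sub_self]
      rw [hθ, hμτ.eq, Module.End.mul_apply, hμ, mu_eq hxx', Module.End.mul_apply, h1, map_zero,
        map_zero]
    have hli : LinearIndependent F ![c, w] := by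
      rw [LinearIndependent.pair_iff]
      intro a b hab
      have h1 : a • c ∈ ker (x - 1) ⊓ range (x - 1) := by
        refine ⟨(ker (x - 1)).smul_mem _ (mem_ker_sub_one.2 hxc), ?_⟩
        have : a • c = -(b • w) := eq_neg_of_add_eq_zero_left hab
        rw [this]
        exact (range (x - 1)).neg_mem ((range (x - 1)).smul_mem _ hw)
      rw [hK.inf_eq_bot, Submodule.mem_bot] at h1
      have ha' : a = 0 := (smul_eq_zero.1 h1).resolve_right hc0
      rw [ha', zero_smul, zero_add] at hab
      exact ⟨ha', (smul_eq_zero.1 hab).resolve_right hw0⟩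
    have hker : 2 ≤ finrank F (ker θ) := by
      have h1 : Submodule.span F (Set.range ![c, w]) ≤ ker θ := by
        rw [Submodule.span_le]
        rintro _ ⟨i, rfl⟩
        fin_cases i
        · exact hθc
        · exact hθw
      have h3 := Submodule.finrank_mono h1
      rw [finrank_span_eq_card hli] at h3
      simpa using h3
    have h3 := LinearMap.finrank_range_add_finrank_ker θ
    omega

end Cfsg.Agent.Lib.Helper99.PGB
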