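import Mathlib
import Cfsg.Agent.Lib.Helper99.PGB.UP

set_option autoImplicit false

universe u

namespace Cfsg.Agent.Lib.Helper99.PGB

open Module LinearMap Cfsg.Agent.Lib.Helper48 Cfsg.Agent.Lib.Helper99.SPD

/-- structure of a commuting pair (order `r`, involution) in an odd-dimensional orthogonal group -/
theorem om2_struct {F V : Type*} [Field F] [Fintype F] [AddCommGroup V] [Module F V]
    [FiniteDimensional F V] (h2 : (2 : F) ≠ 0) (S : LinearMap.BilinForm F V)
    (hsymm : ∀ x y, S x y = S y x) (hnd : ∀ x, (∀ y, S x y = 0) → x = 0) {n r : ℕ}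
    (hdim : finrank F V = 2 * n + 1) (hr : r.Prime) (hr2 : r ≠ 2) (hrq : ¬ r ∣ Fintype.card F)
    (x z : End F V) (hx : IsoB S x) (hz : IsoB S z) (hc : Commute x z) (hxr : x ^ r = 1)
    (hx1 : x ≠ 1) (hzz : z * z = 1) :
    Er (Fintype.card F) n r ∨ ∃ a : V, a ≠ 0 ∧ x a = a ∧ (∀ v, x v = v → ∃ t : F, v = t • a) ∧
      ((∀ w ∈ range (x - 1), z w = w) ∨ (∀ w ∈ range (x - 1), z w = -w)) ∧
      r ∣ Fintype.card F ^ (2 * n) - 1 := by
  have : Fact r.Prime := ⟨hr⟩
  have hrodd : Odd r := hr.odd_of_ne_two hr2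
  have hrF : (r : F) ≠ 0 := Cfsg.Agent.Lib.Helper99.PG.natCast_ne_zero_of_not_dvd hr hrq
  obtain ⟨r', hr'⟩ : ∃ r', r = r' + 1 := ⟨r - 1, by have := hr.pos; omega⟩
  set x' := x ^ r' with hx'
  have hxx' : x * x' = 1 := by rw [hx', ← pow_succ', ← hr', hxr]
  have hx'x : x' * x = 1 := by rw [hx', ← pow_succ, ← hr', hxr]
  have hK := isCompl_ker_range x hrF hxr
  have hcx' : Commute x x' := by change x * x' = x' * x; rw [hxx', hx'x]
  set ψ := x - x' with hψ
  have hskew : ∀ (θ : End F V), (∀ v w, S (θ v) w = - S v (θ w)) → ∀ v, S (θ v) v = 0 := by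
    intro θ hθ v
    have h1 := hθ v v
    rw [hsymm v (θ v)] at h1
    have h3 : (2 : F) * S (θ v) v = 0 := by linear_combination h1
    exact (mul_eq_zero.1 h3).resolve_left h2
  have hψskew : ∀ v, S (ψ v) v = 0 := hskew ψ (adj_psi hx hxx')
  have hψW : ∀ v, ψ v ∈ range (x - 1) := by
    intro v
    rw [hψ, psi_eq hxx', Module.End.mul_apply]
    exact LinearMap.mem_range_self _ _
  have hψker : ∀ v, ψ v = 0 ↔ x v = v := by
    intro v
    constructor
    · intro h
      apply fixed_of_sq_fixed hrodd hxr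
      rw [hψ, LinearMap.sub_apply, sub_eq_zero] at h
      rw [h, ← Module.End.mul_apply, hxx', Module.End.one_apply]
    · intro h
      rw [hψ, LinearMap.sub_apply, h, fixed_inv hx'x h, sub_self]
  have hψ0 : ψ ≠ 0 := by
    intro h0
    apply hx1
    apply LinearMap.ext
    intro v
    rw [Module.End.one_apply, ← hψker, h0]
    rfl
  have hxψ : Commute x ψ := (Commute.refl x).sub_right hcx'
  by_cases hrk : finrank F (range ψ) < 2 * n
  · left
    exact ER S hnd hr hrq x ψ hxr hxψ hψW hψskew hψ0 hrk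
  have hkerEq : ker ψ = ker (x - 1) := by
    ext v
    rw [LinearMap.mem_ker, hψker, mem_ker_sub_one]
  have hrkψ := LinearMap.finrank_range_add_finrank_ker ψ
  have hev := even_rank S hnd ψ hψskew
  have hkerdim : finrank F (ker ψ) = 1 := by
    obtain ⟨i, hi⟩ := hev
    omega
  have hWdim : finrank F (range (x - 1)) = 2 * n := by
    have h1 := LinearMap.finrank_range_add_finrank_ker (x - 1)
    rw [← hkerEq] at h1
    omega
  have hrdvd : r ∣ Fintype.card F ^ (2 * n) - 1 := by
    have h1 := Cfsg.Agent.Lib.Helper65.UnipCent.modEq_of_invariant x hxr (range (x - 1))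
      (fun w hw => range_inv (Commute.refl x) hw)
    rw [inf_comm, hK.inf_eq_bot, finrank_bot, pow_zero, hWdim] at h1
    exact (Nat.modEq_iff_dvd' (Nat.one_le_pow _ _ Fintype.card_pos)).1 h1.symm
  have hψz : Commute ψ z := hc.sub_left (commute_inv hxx' hx'x hc)
  set θ := ψ * (1 + z) with hθ
  have hzadj : ∀ v w, S (z v) w = S v (z w) := adj_left hz hzz
  have hψ1z : Commute ψ (1 + z) := (Commute.one_right ψ).add_right hψz
  have hθskew : ∀ v, S (θ v) v = 0 := by
    apply hskew
    intro v w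
    have h3 : ∀ a b, S ((1 + z) a) b = S a ((1 + z) b) := by
      intro a b
      simp only [LinearMap.add_apply, Module.End.one_apply, map_add, hzadj]
    rw [hθ, Module.End.mul_apply, adj_psi hx hxx', h3, ← Module.End.mul_apply, ← hψ, ← hψ1z.eq]
  have hθW : ∀ v, θ v ∈ range (x - 1) := fun v => hψW _
  have hxθ : Commute x θ := hxψ.mul_right ((Commute.one_right x).add_right hc)
  by_cases hθ0 : θ = 0
  · right
    obtain ⟨a, ha0, ha⟩ := finrank_eq_one_iff'.1 hkerdim
    refine ⟨a, fun h => ha0 (Subtype.ext h), (hψker _).1 a.2, ?_, Or.inr ?_, ?_⟩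
    · intro v hv
      obtain ⟨t, ht⟩ := ha ⟨v, (hψker v).2 hv⟩
      exact ⟨t, (congrArg Subtype.val ht).symm⟩
    · intro w hw
      have h1 : (1 + z) w ∈ range (x - 1) := by
        rw [LinearMap.add_apply, Module.End.one_apply]
        exact (range (x - 1)).add_mem hw (range_inv hc hw)
      have h3 : (1 + z) w ∈ ker (x - 1) := by
        rw [← hkerEq, LinearMap.mem_ker, ← Module.End.mul_apply, ← hθ, hθ0]
        rfl
      have h4 : (1 + z) w ∈ ker (x - 1) ⊓ range (x - 1) := ⟨h3, h1⟩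
      rw [hK.inf_eq_bot, Submodule.mem_bot, LinearMap.add_apply, Module.End.one_apply] at h4
      exact eq_neg_of_add_eq_zero_right h4
    · exact hrdvd
  by_cases hrkθ : finrank F (range θ) < 2 * n
  · left
    exact ER S hnd hr hrq x θ hxr hxθ hθW hθskew hθ0 hrkθ
  right
  obtain ⟨a, ha0, ha⟩ := finrank_eq_one_iff'.1 hkerdim
  refine ⟨a, fun h => ha0 (Subtype.ext h), (hψker _).1 a.2, ?_, Or.inl ?_, ?_⟩
  · intro v hv
    obtain ⟨t, ht⟩ := ha ⟨v, (hψker v).2 hv⟩
    exact ⟨t, (congrArg Subtype.val ht).symm⟩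
  · intro w hw
    have h1 : range θ = range (x - 1) := by
      apply Submodule.eq_of_le_of_finrank_le
      · rintro _ ⟨v, rfl⟩
        exact hθW v
      · omega
    rw [← h1] at hw
    obtain ⟨v, rfl⟩ := hw
    rw [hθ, hψ1z.eq, Module.End.mul_apply, LinearMap.add_apply, Module.End.one_apply, map_add,
      ← Module.End.mul_apply z z, hzz, Module.End.one_apply, add_comm]
  · exact hrdvd

end Cfsg.Agent.Lib.Helper99.PGB
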