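import Mathlib
import Cfsg.Agent.Lib.Helper99.PGB.OM2a
import Cfsg.Agent.Lib.Helper99.SPD.Main
import Cfsg.Agent.Lib.Helper11.PGBAR4
import Cfsg.Agent.Lib.Helper18.OrthOmega

set_option autoImplicit false

universe u

namespace Cfsg.Agent.Lib.Helper99.PGB

open Module LinearMap QuadraticMap Cfsg.Agent.Lib.Helper48 Cfsg.Agent.Lib.Helper18
  Cfsg.Agent.Lib.Helper18.OmegaCenter Cfsg.Agent.Lib.Helper49 Cfsg.Agent.Lib.Helper50
  Cfsg.Agent.Lib.Helper50.Quad Cfsg.Agent.Lib.Helper99.SPD

open scoped Classical in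
/-- OM2 : `2 r` in `Ω` -/
theorem omega_two_r_abs {ι : Type} [Fintype ι] [DecidableEq ι] {F : Type*} [Field F] [Fintype F]
    (h2 : (2 : F) ≠ 0) {n r : ℕ} (hn : 2 ≤ n) (Q : QuadraticForm F (ι → F))
    (hnd : (polarBilin Q).Nondegenerate) (hι : Fintype.card ι = 2 * n + 1)
    (hcard : ∀ c : F, c ≠ 0 →
      Nat.card {v : ι → F // Q v = c} = Fintype.card F ^ (2 * n) + Fintype.card F ^ n ∨
      Nat.card {v : ι → F // Q v = c} = Fintype.card F ^ (2 * n) - Fintype.card F ^ n)
    (hr : r.Prime) (hr2 : r ≠ 2) (hrq : ¬ r ∣ Fintype.card F)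
    (g : ↥(Cfsg.isometryGroup F ⇑Q)) (hg : g ∈ Cfsg.Omega F ⇑Q) (hord : orderOf g = 2 * r) :
    Er (Fintype.card F) n r ∨ 4 * r ∣ Fintype.card F ^ n - 1 ∨ 4 * r ∣ Fintype.card F ^ n + 1 := by
  have : Fact r.Prime := ⟨hr⟩
  have hr3 : 3 ≤ r := by
    have := hr.two_le
    omega
  set q := Fintype.card F with hq
  have hq1 : 1 < q := Fintype.one_lt_card
  have hqodd : Odd q := by
    rw [Nat.odd_iff]
    exact Cfsg.Agent.Lib.Helper18.card_odd h2
  set B : LinearMap.BilinForm F (ι → F) := polarBilin Q with hB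
  have hBp : ∀ x y, B x y = polar Q x y := fun _ _ => rfl
  have hsymm : ∀ x y, B x y = B y x := fun x y => by rw [hBp, hBp, polar_comm]
  have hnd' : ∀ x, (∀ y, B x y = 0) → x = 0 := hnd.1
  have hiso : ∀ h : ↥(Cfsg.isometryGroup F ⇑Q), IsoB B (opT ⇑Q h) := by
    intro h x y
    rw [hBp, hBp, opT_apply, opT_apply, polar_act]
  have hdim : finrank F (ι → F) = 2 * n + 1 := by
    rw [Module.finrank_fintype_fun_eq_card, hι]
  set x := opT ⇑Q (g ^ 2) with hx
  set z := opT ⇑Q (g ^ r) with hz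
  have hxz : Commute x z := by
    rw [hx, hz]
    exact (((Commute.refl g).pow_left 2).pow_right r).map (opT ⇑Q)
  have hxr : x ^ r = 1 := by
    rw [hx, ← map_pow, opT_eq_one, ← pow_mul, ← hord, pow_orderOf_eq_one]
  have hx1 : x ≠ 1 := by
    rw [hx, Ne, opT_eq_one, ← orderOf_dvd_iff_pow_eq_one, hord]
    intro h
    have := Nat.le_of_dvd (by norm_num) h
    omega
  have hzz : z * z = 1 := by
    rw [hz, ← map_mul, opT_eq_one, ← pow_add, ← two_mul, ← hord, pow_orderOf_eq_one]
  have hz1 : z ≠ 1 := by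
    rw [hz, Ne, opT_eq_one, ← orderOf_dvd_iff_pow_eq_one, hord]
    intro h
    have := Nat.le_of_dvd hr.pos h
    omega
  have hgr : g ^ r ∈ Cfsg.Omega F ⇑Q := Subgroup.pow_mem _ hg r
  rcases om2_struct h2 B hsymm hnd' hdim hr hr2 hrq x z (hiso _) (hiso _) hxz hxr hx1 hzz with
    hE | ⟨a, ha0, hxa, hfixx, hzW, hrdvd⟩
  · exact Or.inl hE
  have hrF : (r : F) ≠ 0 := Cfsg.Agent.Lib.Helper99.PG.natCast_ne_zero_of_not_dvd hr hrq
  have hK := isCompl_ker_range x hrF hxr
  have hdec : ∀ v : ι → F, ∃ t : F, ∃ w ∈ range (x - 1), v = t • a + w := by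
    intro v
    obtain ⟨c, hc, w, hw, rfl⟩ := exists_dec hK v
    obtain ⟨t, rfl⟩ := hfixx c (mem_ker_sub_one.1 hc)
    exact ⟨t, w, hw, rfl⟩
  have haW : ∀ w ∈ range (x - 1), B a w = 0 := fun w hw =>
    orth_ker_range (hiso _) (mem_ker_sub_one.2 hxa) hw
  have hBaa : B a a = 2 * Q a := by
    rw [hBp, polar_self]
    simp
  have hQa : Q a ≠ 0 := by
    intro h0
    apply ha0
    apply hnd'
    intro v
    obtain ⟨t, w, hw, rfl⟩ := hdec v
    rw [map_add, map_smul, hBaa, h0, haW w hw]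
    simp
  obtain ⟨κ, hκ⟩ : ∃ κ : F, z a = κ • a := by
    apply hfixx
    rw [← Module.End.mul_apply, hxz.eq, Module.End.mul_apply, hxa]
  have hκ2 : κ = 1 ∨ κ = -1 := by
    have h1 : z (z a) = a := by rw [← Module.End.mul_apply, hzz, Module.End.one_apply]
    rw [hκ, map_smul, hκ, smul_smul] at h1
    have h3 : (κ * κ - 1) • a = 0 := by rw [sub_smul, h1, one_smul, sub_self]
    have h4 : κ * κ - 1 = 0 := (smul_eq_zero.1 h3).resolve_right ha0
    have h5 : (κ - 1) * (κ + 1) = 0 := by linear_combination h4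
    rcases mul_eq_zero.1 h5 with h | h
    · left; exact sub_eq_zero.1 h
    · right; exact eq_neg_of_add_eq_zero_left h
  have hdet : (mat (g ^ r)).det = 1 := det_of_mem_Omega Q _ hgr
  rcases hzW with hzW | hzW
  · exfalso
    rcases hκ2 with rfl | rfl
    · apply hz1
      apply LinearMap.ext
      intro v
      obtain ⟨t, w, hw, rfl⟩ := hdec v
      rw [map_add, map_smul, hκ, hzW w hw, one_smul, Module.End.one_apply]
    · have h1 : g ^ r = Cfsg.Agent.Lib.Helper18.refl Q a := by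
        apply ext_act
        intro v
        obtain ⟨t, w, hw, rfl⟩ := hdec v
        rw [← opT_apply, ← hz, map_add, map_smul, hκ, hzW w hw, act_refl, ← hBp, map_add, map_smul,
          hBaa, haW w hw]
        have h3 : (Q a)⁻¹ * (t • (2 * Q a) + 0) = 2 * t := by
          rw [smul_eq_mul, add_zero]
          field_simp
        rw [h3, mul_smul, two_smul, neg_smul, one_smul, smul_neg]
        abel
      rw [h1, mat_refl, det_reflectionMatrix Q hQa] at hdet
      apply h2
      linear_combination -hdet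
  rcases hκ2 with rfl | rfl
  swap
  · exfalso
    obtain ⟨v, hv0, hv⟩ := exists_fixed_of_det_one h2 B hnd' (mat (g ^ r))
      (fun x y => hiso (g ^ r) x y) hdet (by rw [hι]; exact ⟨n, rfl⟩)
    apply hv0
    have h1 : z v = -v := by
      obtain ⟨t, w, hw, rfl⟩ := hdec v
      rw [map_add, map_smul, hκ, hzW w hw, neg_smul, one_smul, smul_neg]
      abel
    have h3 : z v = v := hv
    rw [h3] at h1
    have h4 : (2 : F) • v = 0 := by
      rw [two_smul]
      nth_rewrite 1 [h1]
      exact neg_add_cancel v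
    exact (smul_eq_zero.1 h4).resolve_left h2
  rw [one_smul] at hκ
  by_cases hr3' : r = 3
  · left
    refine ⟨1, le_rfl, by omega, ?_⟩
    rw [hr3'] at hrq ⊢
    have h1 : q % 3 = 1 ∨ q % 3 = 2 := by omega
    have h3 : q ^ (2 * 1) ≡ 1 [MOD 3] := by
      rcases h1 with h1 | h1
      · have : q ≡ 1 [MOD 3] := h1
        simpa using this.pow 2
      · have : q ≡ 2 [MOD 3] := h1
        exact (this.pow 2).trans (by decide)
    exact (Nat.modEq_iff_dvd' (Nat.one_le_pow _ _ (by omega))).1 h3.symm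
  right
  set c := Q a with hc
  have hane : a ≠ -a := by
    intro h
    have h4 : (2 : F) • a = 0 := by
      rw [two_smul]
      nth_rewrite 1 [h]
      exact neg_add_cancel a
    exact ha0 ((smul_eq_zero.1 h4).resolve_left h2)
  have hline : ∀ v : ι → F, Q v = c → (∃ t : F, v = t • a) → v = a ∨ v = -a := by
    rintro v hv ⟨t, rfl⟩
    rw [QuadraticMap.map_smul, smul_eq_mul] at hv
    have h1 : (t * t - 1) * c = 0 := by rw [sub_mul, hv, one_mul, sub_self]
    have h3 : t * t - 1 = 0 := (mul_eq_zero.1 h1).resolve_right hQa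
    have h5 : (t - 1) * (t + 1) = 0 := by linear_combination h3
    rcases mul_eq_zero.1 h5 with h | h
    · left
      rw [sub_eq_zero.1 h, one_smul]
    · right
      rw [eq_neg_of_add_eq_zero_left h, neg_smul, one_smul]
  have hzfix : ∀ v, z v = v → ∃ t : F, v = t • a := by
    intro v hv
    obtain ⟨t, w, hw, rfl⟩ := hdec v
    rw [map_add, map_smul, hκ, hzW w hw] at hv
    have h1 : -w = w := add_left_cancel hv
    have h4 : (2 : F) • w = 0 := by
      rw [two_smul]
      nth_rewrite 1 [← h1]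
      exact neg_add_cancel w
    rw [(smul_eq_zero.1 h4).resolve_left h2, add_zero]
    exact ⟨t, rfl⟩
  have hfixiff : ∀ (h : ↥(Cfsg.isometryGroup F ⇑Q)), opT ⇑Q h a = a →
      (∀ v, opT ⇑Q h v = v → ∃ t : F, v = t • a) →
      ∀ y : {v : ι → F // Q v = c}, permHom ⇑Q c h y = y ↔ (y.1 = a ∨ y.1 = -a) := by
    intro h ha hfix y
    constructor
    · intro hy
      apply hline y.1 y.2
      apply hfix
      rw [opT_apply, ← permHom_apply, hy]
    · intro hy
      apply Subtype.ext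
      rw [permHom_apply, ← opT_apply]
      rcases hy with hy | hy
      · rw [hy, ha]
      · rw [hy, map_neg, ha]
  have hsuppcard : ∀ σ : Equiv.Perm {v : ι → F // Q v = c},
      (∀ y, σ y = y ↔ (y.1 = a ∨ y.1 = -a)) →
      σ.support.card = Nat.card {v : ι → F // Q v = c} - 2 := by
    intro σ hσ
    have h1 : σ.support.card = Nat.card {v : ι → F // Q v = c ∧ ¬ (v = a ∨ v = -a)} := by
      rw [← Fintype.card_coe, ← Nat.card_eq_fintype_card]
      apply Nat.card_congr
      exact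
        { toFun := fun y => ⟨y.1.1, y.1.2, fun h => (Equiv.Perm.mem_support.1 y.2) ((hσ _).2 h)⟩
          invFun := fun v => ⟨⟨v.1, v.2.1⟩, Equiv.Perm.mem_support.2 (fun h => v.2.2 ((hσ _).1 h))⟩
          left_inv := fun _ => rfl
          right_inv := fun _ => rfl }
    have h3 := card_split (fun v : ι → F => Q v = c) (fun v => v = a ∨ v = -a)
    have h4 : Nat.card {v : ι → F // Q v = c ∧ (v = a ∨ v = -a)} = 2 := by
      rw [Nat.card_eq_two_iff]
      refine ⟨⟨a, rfl, Or.inl rfl⟩, ⟨-a, by rw [QuadraticMap.map_neg], Or.inr rfl⟩, ?_, ?_⟩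
      · intro h
        exact hane (congrArg Subtype.val h)
      · rw [Set.eq_univ_iff_forall]
        rintro ⟨v, hv, hv' | hv'⟩
        · left
          exact Subtype.ext hv'
        · right
          exact Subtype.ext hv'
    rw [h3, h4, h1]
    omega
  set σz := permHom ⇑Q c (g ^ r) with hσz
  set σx := permHom ⇑Q c (g ^ 2) with hσx
  have hz' := hfixiff (g ^ r) hκ hzfix
  have hx' := hfixiff (g ^ 2) hxa hfixx
  have hσzz : σz ^ 2 = 1 := by
    rw [hσz, ← map_pow, ← pow_mul, mul_comm, ← hord, pow_orderOf_eq_one, map_one]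
  obtain ⟨k, hk1, hk2⟩ := sign_semiregular σz even_two hσzz (by
    intro y hy j hj
    by_contra hodd
    have hj' : Odd j := Nat.not_even_iff_odd.1 (fun h => hodd h.two_dvd)
    obtain ⟨i, rfl⟩ := hj'
    rw [pow_succ, pow_mul, hσzz, one_pow, one_mul] at hj
    exact hy hj)
  have hsgn : Equiv.Perm.sign σz = 1 :=
    Abelianization.commutator_subset_ker (sgn ⇑Q c) hgr
  have hkeven : Even k := by
    by_contra hcon
    rw [Nat.not_even_iff_odd] at hcon
    rw [hk2, hcon.neg_one_pow] at hsgn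
    exact absurd hsgn (by decide)
  have h4 : 4 ∣ Nat.card {v : ι → F // Q v = c} - 2 := by
    rw [← hsuppcard σz hz', hk1]
    obtain ⟨i, rfl⟩ := hkeven
    exact ⟨i, by ring⟩
  have hrX : r ∣ Nat.card {v : ι → F // Q v = c} - 2 := by
    rw [← hsuppcard σx hx']
    have hσxr : σx ^ r = 1 := by
      rw [hσx, ← map_pow, ← pow_mul, ← hord, pow_orderOf_eq_one, map_one]
    have h1 := Equiv.Perm.cycleType_of_pow_prime_eq_one (p := r) hσxr
    rw [← Equiv.Perm.sum_cycleType, h1]
    simp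
  have hN3 : 3 ≤ q ^ n := by
    have h1 : q ^ 1 ≤ q ^ n := Nat.pow_le_pow_right (by omega) (by omega)
    rw [pow_one] at h1
    obtain ⟨i, hi⟩ := hqodd
    omega
  apply Cfsg.Agent.Lib.Helper11.PGB.arith4 hqodd.pow hN3 hr hr2 hr3' _ h4 hrX
  · rw [← pow_mul, mul_comm n 2]
    exact hrdvd
  · rw [← pow_mul, mul_comm n 2]
    exact hcard c hQa

end Cfsg.Agent.Lib.Helper99.PGB
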