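import Mathlib
import Cfsg.Agent.Lib.Helper99.PGB.Defs
import Cfsg.Agent.Lib.Helper18.SymmClass
import Cfsg.Agent.Lib.Helper18.OrthOmega
import Cfsg.Agent.Lib.Helper18.OmegaFrames
import Cfsg.Agent.Lib.Helper48.IsomTransport
import Cfsg.Agent.Lib.Helper49.HypPairs

set_option autoImplicit false

universe u

namespace Cfsg.Agent.Lib.Helper99.PGB

open Module LinearMap QuadraticMap Cfsg.Agent.Lib.Helper48 Cfsg.Agent.Lib.Helper18
  Cfsg.Agent.Lib.Helper18.OmegaCenter Cfsg.Agent.Lib.Helper49

/-- the group of isometries of a bilinear form, inside the units of `End`. -/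
def isoGrp {F V : Type*} [Field F] [AddCommGroup V] [Module F V] (S : LinearMap.BilinForm F V) :
    Subgroup (End F V)ˣ where
  carrier := {f | IsoB S (f : End F V)}
  mul_mem' := by
    intro a b ha hb x y
    rw [Units.val_mul, Module.End.mul_apply, Module.End.mul_apply]
    rw [ha, hb]
  one_mem' := by
    intro x y
    simp
  inv_mem' := by
    intro a ha x y
    have h1 : ∀ z, (a : End F V) (((a⁻¹ : (End F V)ˣ) : End F V) z) = z := by
      intro z
      rw [← Module.End.mul_apply, ← Units.val_mul, mul_inv_cancel]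
      rfl
    conv_rhs => rw [← h1 x, ← h1 y]
    exact (ha _ _).symm

/-- squares of isometries lie in `Ω`. -/
theorem sq_mem_Omega {ι : Type} [Fintype ι] [DecidableEq ι] {F : Type*} [Field F] [Fintype F]
    (h2 : (2 : F) ≠ 0) (Q : QuadraticForm F (ι → F)) (hQ : (polarBilin Q).Nondegenerate)
    (hn : 2 ≤ Fintype.card ι) (g : ↥(Cfsg.isometryGroup F ⇑Q)) : g ^ 2 ∈ Cfsg.Omega F ⇑Q := by
  obtain ⟨δ, hδ⟩ := FiniteField.exists_nonsquare (F := F) (ringChar_ne_two h2)
  change g ^ 2 ∈ commutator ↥(Cfsg.isometryGroup F ⇑Q)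
  rw [commutator_eq_ker Q h2 hQ hn hδ, MonoidHom.mem_ker, map_pow]
  ext
  · simp [MonoidHom.prod_apply, Int.units_eq_one_or]
  · simp [MonoidHom.prod_apply, Int.units_eq_one_or]

/-- OMEGA -/
theorem omega_of_OR {F : Type u} [Field F] [Fintype F] (h2 : (2 : F) ≠ 0) {n K : ℕ} (hn : 3 ≤ n)
    (hK : 0 < K) (h : OR F (2 * n + 1) K) :
    ∃ y : Cfsg.POmega F (Cfsg.quadFormOdd n F), orderOf y = K / Nat.gcd K 2 := by
  obtain ⟨V, _, _, _, S, T, hdim, hsymm, hnd, hT, hord⟩ := h
  -- the discriminant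
  have hSnd : S.Nondegenerate := by
    refine ⟨hnd, ?_⟩
    intro y hy
    apply hnd
    intro x
    rw [hsymm]
    exact hy x
  obtain ⟨δ, hδ⟩ := exists_hasDisc S
  have hδ0 : δ ≠ 0 := hδ.ne_zero hSnd
  set κ := Unit ⊕ (Fin n ⊕ Fin n) with hκ
  have hκc : Fintype.card κ = 2 * n + 1 := by simp [hκ]; omega
  set P : LinearMap.BilinForm F (κ → F) := polarBilin (oddQF n F) with hP
  have hPnd : P.Nondegenerate := oddQF_nondegenerate n F h2
  set γ : F := 2 * (-1) ^ n with hγ
  have hγ0 : γ ≠ 0 := mul_ne_zero h2 (pow_ne_zero _ (neg_ne_zero.2 one_ne_zero))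
  have hPdet : (LinearMap.BilinForm.toMatrix (Pi.basisFun F κ) P).det = γ := by
    rw [hP, ← gram_std_eq_toMatrix, oddQF_coe, gram_quadFormOdd_det]
  set c : F := δ * γ with hc
  have hc0 : c ≠ 0 := mul_ne_zero hδ0 hγ0
  have hB'disc : HasDisc (c • P) δ := by
    apply hasDisc_of_basis (c • P) (Pi.basisFun F κ) (s := c ^ n * γ)
      (mul_ne_zero (pow_ne_zero _ hc0) hγ0)
    rw [map_smul, Matrix.det_smul, hPdet, hκc, hc]
    ring
  have hB'symm : (c • P).IsSymm := by
    refine ⟨fun x y => ?_⟩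
    simp only [LinearMap.smul_apply, RingHom.id_apply, hP, polarBilin_apply_apply]
    rw [polar_comm]
  have hB'nd : (c • P).Nondegenerate := by
    constructor
    · intro x hx
      apply hPnd.1
      intro y
      have := hx y
      simp only [LinearMap.smul_apply, smul_eq_mul] at this
      exact (mul_eq_zero.1 this).resolve_left hc0
    · intro x hx
      apply hPnd.2
      intro y
      have := hx y
      simp only [LinearMap.smul_apply, smul_eq_mul] at this
      exact (mul_eq_zero.1 this).resolve_left hc0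
  obtain ⟨φ, hφ⟩ := exists_isometry_of_hasDisc h2 S (c • P) ⟨fun x y => hsymm x y⟩ hB'symm hSnd
    hB'nd (n := 2 * n) hdim (by rw [Module.finrank_fintype_fun_eq_card, hκc]) hδ hB'disc
  -- transport
  obtain ⟨Φ, hΦ⟩ := exists_hom_isometryGroup (G := isoGrp S) (ι := κ)
    ((Units.coeHom (End F V)).comp (isoGrp S).subtype)
    (fun a b hab => Subtype.ext (Units.ext hab)) (fun y => (2 * c)⁻¹ * S y y)
    (fun σ y => by
      have := σ.2 y y
      simp only [MonoidHom.comp_apply, Subgroup.coe_subtype, Units.coeHom_apply]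
      rw [this]) (Cfsg.quadFormOdd n F) φ.symm (fun v => by
      have h1 := hφ (φ.symm v) (φ.symm v)
      rw [LinearEquiv.apply_symm_apply] at h1
      rw [← h1]
      simp only [LinearMap.smul_apply, smul_eq_mul, hP, polarBilin_apply_apply, polar_self,
        nsmul_eq_mul, Nat.cast_ofNat]
      field_simp
      rw [oddQF_coe])
  -- the element
  have hTK : T ^ K = 1 := (hord K).2 dvd_rfl
  let Tu : (End F V)ˣ := Units.ofPowEqOne T K hTK hK.ne'
  have hTu : (Tu : End F V) = T := rfl
  let t : isoGrp S := ⟨Tu, hT⟩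
  have htord : orderOf t = K := by
    apply Nat.dvd_antisymm
    · rw [orderOf_dvd_iff_pow_eq_one]
      apply Subtype.ext
      apply Units.ext
      simpa [t, hTu] using hTK
    · rw [← hord]
      have h1 : t ^ orderOf t = 1 := pow_orderOf_eq_one t
      have h3 := congrArg (fun a : isoGrp S => ((a : (End F V)ˣ) : End F V)) h1
      simp only [Subgroup.coe_pow, Units.val_pow_eq_pow_val, Subgroup.coe_one, Units.val_one] at h3
      exact h3
  have hgord : orderOf (Φ t) = K := by rw [orderOf_injective Φ hΦ, htord]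
  have hmem : (Φ t) ^ 2 ∈ Cfsg.Omega F (Cfsg.quadFormOdd n F) := by
    have := sq_mem_Omega h2 (oddQF n F) (oddQF_nondegenerate n F h2) (by rw [hκc]; omega)
    rw [oddQF_coe] at this
    exact this (Φ t)
  have hZ : Nat.card (Subgroup.center ↥(Cfsg.Omega F (Cfsg.quadFormOdd n F))) = 1 := by
    rw [← oddQF_coe n F]
    have hQ := oddQF_nondegenerate n F h2
    apply card_center_eq_one (oddQF n F) hQ (frame_odd n hn)
    right
    rintro ⟨g, hg, hg1⟩
    have hd := det_of_mem_Omega (oddQF n F) g hg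
    rw [hg1, Matrix.det_neg, Matrix.det_one] at hd
    rw [hκc, pow_succ, pow_mul] at hd
    simp only [even_two, Even.neg_pow, one_pow, one_mul, mul_one] at hd
    apply h2
    linear_combination -hd
  have hZbot : Subgroup.center ↥(Cfsg.Omega F (Cfsg.quadFormOdd n F)) = ⊥ :=
    Subgroup.card_eq_one.mp hZ
  have hinj : Function.Injective
      (QuotientGroup.mk' (Subgroup.center ↥(Cfsg.Omega F (Cfsg.quadFormOdd n F)))) := by
    rw [injective_iff_map_eq_one]
    intro a ha
    rw [QuotientGroup.mk'_apply, QuotientGroup.eq_one_iff, hZbot, Subgroup.mem_bot] at ha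
    exact ha
  refine ⟨QuotientGroup.mk' _ ⟨(Φ t) ^ 2, hmem⟩, ?_⟩
  rw [orderOf_injective _ hinj, ← Subgroup.orderOf_coe, orderOf_pow, hgord]

end Cfsg.Agent.Lib.Helper99.PGB
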