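import Mathlib
import Cfsg.Agent.Lib.Helper99.PGB.UP

set_option autoImplicit false

universe u

namespace Cfsg.Agent.Lib.Helper99.PGB

open Module LinearMap Cfsg.Agent.Lib.Helper48 Cfsg.Agent.Lib.Helper99.SPD

theorem eq_of_dvd_four_mul {K r : ℕ} (hr : r.Prime) (h : K ∣ 4 * r) (h1 : ¬ K ∣ 2 * r)
    (h2 : ¬ K ∣ 4) : K = 4 * r := by
  by_cases hrK : r ∣ K
  · obtain ⟨K', rfl⟩ := hrK
    have h3 : K' ∣ 4 := by
      rw [mul_comm 4 r] at h
      exact Nat.dvd_of_mul_dvd_mul_left hr.pos h
    have h4 : K' ≤ 4 := Nat.le_of_dvd (by norm_num) h3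
    interval_cases K'
    · simp at h3
    · exact absurd (Dvd.intro_left 2 (by ring)) h1
    · exact absurd (by rw [mul_comm]) h1
    · omega
    · ring
  · have hcop : Nat.Coprime K r := ((Nat.Prime.coprime_iff_not_dvd hr).2 hrK).symm
    exact absurd (hcop.dvd_of_dvd_mul_right h) h2

/-- SP2 : `2 r` in `PSp` -/
theorem psp_two_r_abs {F : Type u} [Field F] [Fintype F] {V : Type u} [AddCommGroup V] [Module F V]
    [FiniteDimensional F V] (h2 : (2 : F) ≠ 0) (B : LinearMap.BilinForm F V)
    (halt : ∀ v, B v v = 0) (hnd : ∀ x, (∀ y, B x y = 0) → x = 0) {n r : ℕ}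
    (hdim : finrank F V = 2 * n) (hr : r.Prime) (hr2 : r ≠ 2) (hrq : ¬ r ∣ Fintype.card F)
    (T : End F V) (hT : IsoB B T) (hord : ∀ j, (T ^ j = 1 ∨ T ^ j = -1) ↔ 2 * r ∣ j) :
    Er (Fintype.card F) n r ∨ ∃ d, d ≤ 2 * n ∧ OR F d (4 * r) := by
  have hrodd : Odd r := hr.odd_of_ne_two hr2
  have hr3 : 3 ≤ r := by
    have := hr.two_le
    omega
  have hrF : (r : F) ≠ 0 := Cfsg.Agent.Lib.Helper99.PG.natCast_ne_zero_of_not_dvd hr hrq
  have hskew : ∀ v w, B v w = - B w v := by
    intro v w
    have := halt (v + w)
    simp only [map_add, LinearMap.add_apply, halt, zero_add, add_zero] at this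
    exact eq_neg_of_add_eq_zero_right this
  rcases (hord (2 * r)).2 dvd_rfl with hA | hA
  · -- involution case
    left
    set y := T ^ r with hy
    have hyy : y * y = 1 := by rw [hy, ← pow_add, ← two_mul, hA]
    have hy1 : y ≠ 1 := by
      intro h
      have := Nat.le_of_dvd hr.pos ((hord r).1 (Or.inl h))
      omega
    have hym1 : y ≠ -1 := by
      intro h
      have := Nat.le_of_dvd hr.pos ((hord r).1 (Or.inr h))
      omega
    have hyiso : IsoB B y := isoB_pow hT r
    set x := T ^ 2 with hx
    have hxiso : IsoB B x := isoB_pow hT 2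
    have hxr : x ^ r = 1 := by rw [hx, ← pow_mul, hA]
    have hx1 : x ≠ 1 := by
      intro h
      have := Nat.le_of_dvd (by norm_num) ((hord 2).1 (Or.inl h))
      omega
    obtain ⟨r', hr'⟩ : ∃ r', r = r' + 1 := ⟨r - 1, by omega⟩
    set x' := x ^ r' with hx'
    have hxx' : x * x' = 1 := by rw [hx', ← pow_succ', ← hr', hxr]
    have hx'x : x' * x = 1 := by rw [hx', ← pow_succ, ← hr', hxr]
    have hK := isCompl_ker_range x hrF hxr
    have hcx' : Commute x x' := by change x * x' = x' * x; rw [hxx', hx'x]
    have hxy : Commute x y := ((Commute.refl T).pow_left 2).pow_right r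
    have hx'y : Commute x' y := commute_inv hxx' hx'x hxy
    set μ := x + x' - 2 with hμ
    have hxμ : Commute x μ := by
      rw [hμ]
      exact ((Commute.refl x).add_right hcx').sub_right (Commute.ofNat_right x 2)
    have hμy : Commute μ y := by
      rw [hμ]
      exact (hxy.add_left hx'y).sub_left (Commute.ofNat_left 2 y)
    have hWne : range (x - 1) ≠ ⊥ := by
      intro h
      rw [LinearMap.range_eq_bot, sub_eq_zero] at h
      exact hx1 h
    have hμ0 : μ ≠ 0 := by
      intro h0
      obtain ⟨a, ha, ha0⟩ := Submodule.exists_mem_ne_zero_of_ne_bot hWne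
      exact ha0 (mu_inj hxx' hx'x hK ha (by rw [← hμ, h0]; rfl))
    have key : ∀ κ : End F V, (κ = y ∨ κ = -y) → μ * (1 + κ) ≠ 0 → Er (Fintype.card F) n r := by
      intro κ hκ hθ0
      have hκκ : κ * κ = 1 := by
        rcases hκ with rfl | rfl
        · exact hyy
        · rw [neg_mul_neg, hyy]
      have hκ1 : κ ≠ 1 := by
        rcases hκ with rfl | rfl
        · exact hy1
        · intro h
          apply hym1
          rw [← h, neg_neg]
      have hκadj : ∀ v w, B (κ v) w = B v (κ w) := by
        rcases hκ with rfl | rfl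
        · exact adj_left hyiso hyy
        · intro v w
          simp only [LinearMap.neg_apply, map_neg]
          rw [adj_left hyiso hyy]
      have hxκ : Commute x κ := by
        rcases hκ with rfl | rfl
        · exact hxy
        · exact hxy.neg_right
      have hμκ : Commute μ κ := by
        rcases hκ with rfl | rfl
        · exact hμy
        · exact hμy.neg_right
      apply ER B hnd hr hrq x (μ * (1 + κ)) hxr (hxμ.mul_right ((Commute.one_right x).add_right hxκ))
        _ _ hθ0
      · -- rank
        have hker : ker (μ * (1 + κ)) ≠ ⊥ := by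
          intro h
          apply hκ1
          have h1 : μ * (1 + κ) * (1 - κ) = 0 := by
            have : (1 + κ) * (1 - κ) = 1 - κ * κ := by noncomm_ring
            rw [mul_assoc, this, hκκ, sub_self, mul_zero]
          apply LinearMap.ext
          intro v
          have h3 : (1 - κ) v ∈ ker (μ * (1 + κ)) := by
            rw [LinearMap.mem_ker, ← Module.End.mul_apply, h1]
            rfl
          rw [h, Submodule.mem_bot, LinearMap.sub_apply, Module.End.one_apply, sub_eq_zero] at h3
          rw [Module.End.one_apply, ← h3]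
        have h1 := LinearMap.finrank_range_add_finrank_ker (μ * (1 + κ))
        have h3 : 0 < finrank F (ker (μ * (1 + κ))) := by
          rw [Nat.pos_iff_ne_zero]
          intro h
          exact hker (Submodule.finrank_eq_zero.1 h)
        omega
      · intro v
        rw [hμ, mu_eq hxx', mul_assoc, Module.End.mul_apply]
        exact LinearMap.mem_range_self _ _
      · intro v
        have h1 : B ((μ * (1 + κ)) v) v = B v ((μ * (1 + κ)) v) := by
          have h3 : ∀ a b, B ((1 + κ) a) b = B a ((1 + κ) b) := by
            intro a b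
            simp only [LinearMap.add_apply, Module.End.one_apply, map_add, hκadj]
          have h4 : Commute μ (1 + κ) := (Commute.one_right μ).add_right hμκ
          rw [Module.End.mul_apply, hμ, adj_mu hxiso hxx', h3, ← hμ, ← Module.End.mul_apply,
            ← h4.eq, Module.End.mul_apply]
        rw [hskew v] at h1
        have h3 : (2 : F) * B ((μ * (1 + κ)) v) v = 0 := by linear_combination h1
        exact (mul_eq_zero.1 h3).resolve_left h2
    by_cases h1 : μ * (1 + y) = 0
    · apply key (-y) (Or.inr rfl)
      intro h3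
      apply hμ0
      have h4 : μ * (1 + y) + μ * (1 + -y) = (2 : F) • μ := by
        rw [two_smul]
        noncomm_ring
      rw [h1, h3, add_zero] at h4
      exact (smul_eq_zero.1 h4.symm).resolve_left h2
    · exact key y (Or.inl rfl) h1
  · -- order 4r
    right
    set x := T ^ 4 with hx
    have hT4r : T ^ (4 * r) = 1 := by
      have : 4 * r = 2 * r + 2 * r := by ring
      rw [this, pow_add, hA, neg_mul_neg, one_mul]
    have hxr : x ^ r = 1 := by rw [hx, ← pow_mul, hT4r]
    have hx1 : x ≠ 1 := by
      intro h
      have := Nat.le_of_dvd (by norm_num) ((hord 4).1 (Or.inl h))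
      omega
    have hxT : Commute x T := (Commute.refl T).pow_left 4
    have hinv : ∀ w ∈ range (x - 1), T w ∈ range (x - 1) := fun w hw => range_inv hxT hw
    have hK := isCompl_ker_range x hrF hxr
    have hWne : range (x - 1) ≠ ⊥ := by
      intro h
      rw [LinearMap.range_eq_bot, sub_eq_zero] at h
      exact hx1 h
    set TW : End F (range (x - 1)) := T.restrict hinv with hTW
    have hK0 : orderOf TW = 4 * r := by
      apply eq_of_dvd_four_mul hr
      · rw [orderOf_dvd_iff_pow_eq_one, restrict_pow_eq_one_iff]
        intro w _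
        rw [hT4r, Module.End.one_apply]
      · rw [orderOf_dvd_iff_pow_eq_one, restrict_pow_eq_one_iff]
        intro h
        obtain ⟨a, ha, ha0⟩ := Submodule.exists_mem_ne_zero_of_ne_bot hWne
        have h1 := h a ha
        rw [hA, LinearMap.neg_apply, Module.End.one_apply] at h1
        have h3 : (2 : F) • a = 0 := by
          rw [two_smul]
          nth_rewrite 1 [← h1]
          exact neg_add_cancel a
        exact ha0 ((smul_eq_zero.1 h3).resolve_left h2)
      · rw [orderOf_dvd_iff_pow_eq_one, restrict_pow_eq_one_iff]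
        intro h
        apply hx1
        apply LinearMap.ext
        intro v
        obtain ⟨a, ha, b, hb, rfl⟩ := exists_dec hK v
        rw [map_add, mem_ker_sub_one.1 ha, h b hb, Module.End.one_apply]
    refine ⟨finrank F (range (x - 1)), ?_, ?_⟩
    · rw [← hdim]
      exact Submodule.finrank_le _
    · apply (transfer h2 B hnd x T (isoB_pow hT 4) hT hxT hrodd hrF hxr _).1 halt
      intro j
      rw [← restrict_pow_eq_one_iff T _ hinv, ← orderOf_dvd_iff_pow_eq_one, hK0]

end Cfsg.Agent.Lib.Helper99.PGB
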