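import Mathlib
import Cfsg.Agent.Lib.Helper99.PGB.OM2
import Cfsg.Agent.Lib.Helper99.PGB.SP2
import Cfsg.Agent.Lib.Helper99.PGB.Omega
import Cfsg.Agent.Lib.Helper11.PGBADD
import Cfsg.Agent.Lib.Helper11.PGBONE
import Cfsg.Agent.Lib.Helper11.PGBFOUR
import Cfsg.Agent.Lib.Helper11.PGBUNI
import Cfsg.Agent.Lib.Helper11.PGBEVEN
import Cfsg.Agent.Lib.Helper11.PGBPSP
import Cfsg.Agent.Lib.Helper11.PGBTOR
import Cfsg.Agent.Lib.Helper11.PGBERO
import Cfsg.Agent.Lib.Helper99.PG.SP3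
import Cfsg.Agent.Lib.Helper48.SpSpec
import Cfsg.Agent.S2472

set_option autoImplicit false

universe u

namespace Cfsg.Agent.Lib.Helper99.PGB

open Module LinearMap QuadraticMap Cfsg.Agent.Lib.Helper48 Cfsg.Agent.Lib.Helper18
  Cfsg.Agent.Lib.Helper18.OmegaCenter Cfsg.Agent.Lib.Helper49 Cfsg.Agent.Lib.Helper17
  Cfsg.Agent.Lib.Helper99.SPD Cfsg.Agent.Lib.Helper11.PGB

/-- lifting an element of `PΩ` to `Ω`. -/
theorem lift_omega {F : Type*} [Field F] [Fintype F] (h2 : (2 : F) ≠ 0) {n : ℕ} (hn : 3 ≤ n)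
    (y : Cfsg.POmega F (Cfsg.quadFormOdd n F)) :
    ∃ g : ↥(Cfsg.isometryGroup F ⇑(oddQF n F)), g ∈ Cfsg.Omega F ⇑(oddQF n F) ∧
      orderOf g = orderOf y := by
  have hZ : Nat.card (Subgroup.center ↥(Cfsg.Omega F (Cfsg.quadFormOdd n F))) = 1 := by
    rw [← oddQF_coe n F]
    have hQ := oddQF_nondegenerate n F h2
    apply card_center_eq_one (oddQF n F) hQ (frame_odd n hn)
    right
    rintro ⟨g, hg, hg1⟩
    have hd := det_of_mem_Omega (oddQF n F) g hg
    rw [hg1, Matrix.det_neg, Matrix.det_one] at hd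
    have hc : Fintype.card (Unit ⊕ (Fin n ⊕ Fin n)) = 2 * n + 1 := by simp; omega
    rw [hc, pow_succ, pow_mul] at hd
    simp only [even_two, Even.neg_pow, one_pow, one_mul, mul_one] at hd
    apply h2
    linear_combination -hd
  have hZbot : Subgroup.center ↥(Cfsg.Omega F (Cfsg.quadFormOdd n F)) = ⊥ :=
    Subgroup.card_eq_one.mp hZ
  obtain ⟨g, rfl⟩ := QuotientGroup.mk_surjective y
  have hinj : Function.Injective
      (QuotientGroup.mk' (Subgroup.center ↥(Cfsg.Omega F (Cfsg.quadFormOdd n F)))) := by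
    rw [injective_iff_map_eq_one]
    intro a ha
    rw [QuotientGroup.mk'_apply, QuotientGroup.eq_one_iff, hZbot, Subgroup.mem_bot] at ha
    exact ha
  have hg1 : orderOf (g : ↥(Cfsg.isometryGroup F (Cfsg.quadFormOdd n F))) =
      orderOf (QuotientGroup.mk g : Cfsg.POmega F (Cfsg.quadFormOdd n F)) := by
    rw [Subgroup.orderOf_coe]
    exact (orderOf_injective _ hinj g).symm
  have hgm := g.2
  revert hg1 hgm
  generalize orderOf (QuotientGroup.mk g : Cfsg.POmega F (Cfsg.quadFormOdd n F)) = N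
  generalize (g : ↥(Cfsg.isometryGroup F (Cfsg.quadFormOdd n F))) = g'
  revert g'
  rw [← oddQF_coe n F]
  intro g' hg1 hgm
  exact ⟨g', hgm, hg1⟩

/-- the hypothesis of `transfer` for `x = T`. -/
theorem hK_self {F V : Type*} [Field F] [AddCommGroup V] [Module F V] [FiniteDimensional F V]
    (T : End F V) {K : ℕ} (hKF : (K : F) ≠ 0) (hord : ∀ j, T ^ j = 1 ↔ K ∣ j) (j : ℕ) :
    (∀ w ∈ range (T - 1), (T ^ j) w = w) ↔ K ∣ j := by
  have hK := isCompl_ker_range T hKF ((hord K).2 dvd_rfl)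
  rw [← hord]
  constructor
  · intro h
    apply LinearMap.ext
    intro v
    obtain ⟨a, ha, b, hb, rfl⟩ := exists_dec hK v
    rw [map_add, pow_apply_fixed (mem_ker_sub_one.1 ha), h b hb, Module.End.one_apply]
  · intro h w _
    rw [h, Module.End.one_apply]

section main
variable {F : Type u} [Field F] [Fintype F]

theorem opT_data (n : ℕ) (h2 : (2 : F) ≠ 0) :
    (∀ x y, polarBilin (oddQF n F) x y = polarBilin (oddQF n F) y x) ∧
    (∀ x, (∀ y, polarBilin (oddQF n F) x y = 0) → x = 0) ∧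
    (∀ h : ↥(Cfsg.isometryGroup F ⇑(oddQF n F)),
      IsoB (polarBilin (oddQF n F)) (opT ⇑(oddQF n F) h)) ∧
    finrank F (Unit ⊕ (Fin n ⊕ Fin n) → F) = 2 * n + 1 := by
  refine ⟨fun x y => ?_, (oddQF_nondegenerate n F h2).1, fun h x y => ?_, ?_⟩
  · rw [polarBilin_apply_apply, polarBilin_apply_apply, polar_comm]
  · rw [polarBilin_apply_apply, polarBilin_apply_apply, opT_apply, opT_apply, polar_act]
  · rw [Module.finrank_fintype_fun_eq_card]
    simp
    omega

theorem opT_pow_eq_one {n : ℕ} (g : ↥(Cfsg.isometryGroup F ⇑(oddQF n F))) (a j : ℕ) :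
    (opT ⇑(oddQF n F) (g ^ a)) ^ j = 1 ↔ orderOf g ∣ a * j := by
  rw [← map_pow, opT_eq_one, ← pow_mul, orderOf_dvd_iff_pow_eq_one]

/-- odd orders prime to `p` -/
theorem odd_iff (h2 : (2 : F) ≠ 0) {n K : ℕ} (hn : 3 ≤ n) (hK : Odd K) (hKF : (K : F) ≠ 0) :
    (K ∈ Set.range (orderOf : Cfsg.POmega F (Cfsg.quadFormOdd n F) → ℕ)) ↔
      (K ∈ Set.range (orderOf : Cfsg.PSp n F → ℕ)) := by
  have hK0 : 0 < K := hK.pos
  constructor
  · rintro ⟨y, hy⟩
    obtain ⟨g, hg, hgo⟩ := lift_omega h2 hn y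
    rw [hy] at hgo
    obtain ⟨hsymm, hnd, hiso, hdim⟩ := opT_data (F := F) n h2
    set T := opT ⇑(oddQF n F) g with hT
    have hord : ∀ j, T ^ j = 1 ↔ K ∣ j := by
      intro j
      have := opT_pow_eq_one g 1 j
      rw [pow_one, one_mul, hgo] at this
      exact this
    have hAR := (transfer h2 _ hnd T T (hiso g) (hiso g) (Commute.refl T) hK hKF
      ((hord K).2 dvd_rfl) (hK_self T hKF hord)).2 hsymm
    obtain ⟨d, hd⟩ := AR_even hAR
    have hle : finrank F (range (T - 1)) ≤ 2 * n + 1 := by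
      rw [← hdim]
      exact Submodule.finrank_le _
    have h3 := AR_add hAR (AR_one F (n - d))
    have h4 : finrank F (range (T - 1)) + 2 * (n - d) = 2 * n := by omega
    rw [h4, Nat.lcm_one_right] at h3
    exact psp_of_AR hK h3
  · rintro ⟨y, hy⟩
    obtain ⟨T, hT, hord⟩ := exists_isoB_of_PSp_odd y (by rw [hy]; exact hK)
    rw [hy] at hord
    have hOR := (transfer h2 _ (sympB_nondegenerate (F := F) n).1 T T hT hT (Commute.refl T) hK hKF
      ((hord K).2 dvd_rfl) (hK_self T hKF hord)).1 (sympB_isAlt (F := F) n)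
    have hle : finrank F (range (T - 1)) ≤ 2 * n := by
      rw [← finrank_symp_space (F := F) n]
      exact Submodule.finrank_le _
    have h3 := OR_add hOR (OR_one F (2 * n + 1 - finrank F (range (T - 1))))
    have h4 : finrank F (range (T - 1)) + (2 * n + 1 - finrank F (range (T - 1))) = 2 * n + 1 := by
      omega
    rw [h4, Nat.lcm_one_right] at h3
    obtain ⟨z, hz⟩ := omega_of_OR h2 hn hK0 h3
    refine ⟨z, ?_⟩
    rw [hz, (Nat.coprime_two_right.2 hK : Nat.gcd K 2 = 1), Nat.div_one]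

end main

end Cfsg.Agent.Lib.Helper99.PGB
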