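import Mathlib
import Cfsg.Agent.Lib.Helper99.PGB.Asm
import Cfsg.Agent.Lib.Helper11.PGBERS
import Cfsg.Agent.Lib.Helper11.PGBLEV

set_option autoImplicit false

universe u

namespace Cfsg.Agent.Lib.Helper99.PGB

open Module LinearMap QuadraticMap Cfsg.Agent.Lib.Helper48 Cfsg.Agent.Lib.Helper18
  Cfsg.Agent.Lib.Helper18.OmegaCenter Cfsg.Agent.Lib.Helper49 Cfsg.Agent.Lib.Helper17
  Cfsg.Agent.Lib.Helper99.SPD Cfsg.Agent.Lib.Helper11.PGB Cfsg.Agent.Lib.Helper65.UnipCent

section main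
variable {F : Type u} [Field F] [Fintype F]

/-- padding an orthogonal realisation by a trivial summand. -/
theorem OR_pad {d K : ℕ} (h : OR F d K) {D : ℕ} (hD : d ≤ D) : OR F D K := by
  have h3 := OR_add h (OR_one F (D - d))
  rwa [Nat.add_sub_cancel' hD, Nat.lcm_one_right] at h3

/-- `t * p` -/
theorem p_iff (h2 : (2 : F) ≠ 0) (p : ℕ) [Fact p.Prime] [CharP F p] {n t : ℕ} (hn : 3 ≤ n)
    (ht : t.Prime) (ht2 : t ≠ 2) (htp : t ≠ p) :
    (t * p ∈ Set.range (orderOf : Cfsg.POmega F (Cfsg.quadFormOdd n F) → ℕ)) ↔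
      (t * p ∈ Set.range (orderOf : Cfsg.PSp n F → ℕ)) := by
  have hp : p.Prime := Fact.out
  have htq : ¬ t ∣ Fintype.card F := not_dvd_card_of_ne p ht htp
  have hcop : Nat.Coprime t p := (Nat.coprime_primes ht hp).2 htp
  have hp2 : p ≠ 2 := by
    rintro rfl
    exact h2 (by exact_mod_cast CharP.cast_eq_zero F 2)
  constructor
  · rintro ⟨y, hy⟩
    obtain ⟨g, hg, hgo⟩ := lift_omega h2 hn y
    rw [hy] at hgo
    obtain ⟨hsymm, hnd, hiso, hdim⟩ := opT_data (F := F) n h2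
    have hE : Er (Fintype.card F) n t := by
      have : CharP (End F (Unit ⊕ (Fin n ⊕ Fin n) → F)) p :=
        charP_of_injective_algebraMap
          (FaithfulSMul.algebraMap_injective F (End F (Unit ⊕ (Fin n ⊕ Fin n) → F))) p
      have hup : (opT ⇑(oddQF n F) (g ^ t)) ^ p = 1 := by
        rw [opT_pow_eq_one, hgo]
      apply Er_of_unip h2 _ hsymm hnd hdim ht ht2 htq (opT ⇑(oddQF n F) (g ^ p))
        (opT ⇑(oddQF n F) (g ^ t)) (opT ⇑(oddQF n F) ((g ^ t) ^ (p - 1))) (hiso _) (hiso _)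
      · show _ * _ = _ * _
        rw [← map_mul, ← map_mul, ← pow_add, ← pow_add, add_comm]
      · rw [opT_pow_eq_one, hgo, mul_comm]
      · intro h
        have := (opT_pow_eq_one g p 1).1 (by rw [pow_one, h])
        rw [hgo, mul_one] at this
        have h3 := Nat.le_of_dvd hp.pos this
        have := ht.two_le
        nlinarith [hp.pos]
      · rw [← map_mul, ← pow_succ', Nat.sub_add_cancel hp.one_le, map_pow, hup]
      · rw [← map_mul, ← pow_succ, Nat.sub_add_cancel hp.one_le, map_pow, hup]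
      · refine ⟨p, ?_⟩
        rw [sub_pow_char_of_commute p (Commute.one_right _), hup, one_pow, sub_self]
      · intro h
        have := (opT_pow_eq_one g t 1).1 (by rw [pow_one, h])
        rw [hgo, mul_one] at this
        have h3 := Nat.le_of_dvd ht.pos this
        have := hp.two_le
        nlinarith [ht.pos]
    obtain ⟨i, hi, hin, h⟩ := hE
    exact Cfsg.Agent.Lib.Helper99.PG.exists_PSp_orderOf_mul p ht ht2 htp hi hin h
  · rintro ⟨y, hy⟩
    have hE : Er (Fintype.card F) n t := by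
      apply Cfsg.Agent.S2472.exists_dvd_PSp p ht ht2 htp (by omega) (y ^ t) (y ^ p)
      · rw [orderOf_pow_of_dvd ht.ne_zero (by rw [hy]; exact dvd_mul_right _ _), hy,
          Nat.mul_div_cancel_left _ ht.pos]
      · rw [orderOf_pow_of_dvd hp.ne_zero (by rw [hy]; exact dvd_mul_left _ _), hy,
          Nat.mul_div_cancel _ hp.pos]
      · exact (Commute.refl y).pow_pow _ _
    obtain ⟨d, hd, hOR⟩ := OR_of_Er h2 ht ht2 htq hE
    have h3 := OR_pad (OR_add hOR (OR_three_p F p h2)) (D := 2 * n + 1) (by omega)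
    rw [hcop.lcm_eq_mul] at h3
    obtain ⟨z, hz⟩ := omega_of_OR h2 hn (Nat.mul_pos ht.pos hp.pos) h3
    refine ⟨z, ?_⟩
    have hodd : Odd (t * p) := (ht.odd_of_ne_two ht2).mul (hp.odd_of_ne_two hp2)
    rw [hz, (Nat.coprime_two_right.2 hodd : Nat.gcd (t * p) 2 = 1), Nat.div_one]

theorem four_mul_div_gcd (a : ℕ) : 4 * a / Nat.gcd (4 * a) 2 = 2 * a := by
  have h : Nat.gcd (4 * a) 2 = 2 := Nat.gcd_eq_right ⟨2 * a, by ring⟩
  rw [h]
  omega

/-- `2 * p` occurs on both sides -/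
theorem two_p (h2 : (2 : F) ≠ 0) (p : ℕ) [Fact p.Prime] [CharP F p] {n : ℕ} (hn : 3 ≤ n) :
    (2 * p ∈ Set.range (orderOf : Cfsg.POmega F (Cfsg.quadFormOdd n F) → ℕ)) ∧
      (2 * p ∈ Set.range (orderOf : Cfsg.PSp n F → ℕ)) := by
  have hp : p.Prime := Fact.out
  have hp2 : p ≠ 2 := by
    rintro rfl
    exact h2 (by exact_mod_cast CharP.cast_eq_zero F 2)
  have hpodd : Odd p := hp.odd_of_ne_two hp2
  constructor
  · have h3 := OR_pad (OR_add (OR_two_four F h2) (OR_three_p F p h2)) (D := 2 * n + 1) (by omega)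
    have hcop : Nat.Coprime 4 p := by
      have : Nat.Coprime (2 ^ 2) p := Nat.Coprime.pow_left 2 (Nat.coprime_two_left.2 hpodd)
      simpa using this
    rw [hcop.lcm_eq_mul] at h3
    obtain ⟨z, hz⟩ := omega_of_OR h2 hn (by have := hp.pos; omega) h3
    exact ⟨z, by rw [hz, four_mul_div_gcd p]⟩
  · have hpq : p ∣ Fintype.card F := by
      obtain ⟨k, _, hk⟩ := FiniteField.card F p
      rw [hk]
      exact dvd_pow_self p k.ne_zero
    have hc2 : p ∣ Nat.card (Matrix.symplecticGroup (Fin 1) F) := by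
      rw [Cfsg.Agent.S0245.result rfl 1]
      apply Dvd.dvd.mul_right
      simp only [one_pow, pow_one]
      exact hpq
    obtain ⟨A₁, hA₁⟩ := exists_prime_orderOf_dvd_card' p hc2
    exact exists_PSp_two_mul h2 (n₁ := 1) (n₂ := n - 1) le_rfl (by omega) (by omega) A₁ 1 p hpodd
      (by rw [hA₁]; exact Nat.dvd_lcm_left _ _)

/-- `2 * t` -/
theorem two_iff (h2 : (2 : F) ≠ 0) {n t : ℕ} (hn : 3 ≤ n)
    (ht : t.Prime) (ht2 : t ≠ 2) (htq : ¬ t ∣ Fintype.card F) :
    (2 * t ∈ Set.range (orderOf : Cfsg.POmega F (Cfsg.quadFormOdd n F) → ℕ)) ↔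
      (2 * t ∈ Set.range (orderOf : Cfsg.PSp n F → ℕ)) := by
  have hcop : Nat.Coprime t 4 := by
    have : Nat.Coprime t (2 ^ 2) :=
      Nat.Coprime.pow_right 2 (Nat.coprime_two_right.2 (ht.odd_of_ne_two ht2))
    simpa using this
  constructor
  · rintro ⟨y, hy⟩
    obtain ⟨g, hg, hgo⟩ := lift_omega h2 hn y
    rw [hy] at hgo
    have hcard : ∀ c : F, c ≠ 0 →
        Nat.card {v : Unit ⊕ (Fin n ⊕ Fin n) → F // oddQF n F v = c} =
          Fintype.card F ^ (2 * n) + Fintype.card F ^ n ∨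
        Nat.card {v : Unit ⊕ (Fin n ⊕ Fin n) → F // oddQF n F v = c} =
          Fintype.card F ^ (2 * n) - Fintype.card F ^ n := by
      intro c hc
      have := card_level_odd h2 n c hc
      rw [← oddQF_coe n F] at this
      exact this
    rcases omega_two_r_abs h2 (by omega) (oddQF n F) (oddQF_nondegenerate n F h2)
      (by simp; omega) hcard ht ht2 htq g hg hgo with hE | h4
    · exact psp_two_r_of_Er h2 ht ht2 hE
    · exact psp_of_torus h2 (by omega) ht.pos h4
  · rintro ⟨y, hy⟩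
    obtain ⟨A, rfl⟩ := QuotientGroup.mk_surjective y
    have hord : ∀ j, ((Matrix.mulVecLin (A : Matrix (Fin n ⊕ Fin n) (Fin n ⊕ Fin n) F) :
        End F (Fin n ⊕ Fin n → F)) ^ j = 1 ∨
        (Matrix.mulVecLin (A : Matrix (Fin n ⊕ Fin n) (Fin n ⊕ Fin n) F) :
        End F (Fin n ⊕ Fin n → F)) ^ j = -1) ↔ 2 * t ∣ j := by
      intro j
      rw [← hy, orderOf_mk_sp_dvd_iff, (sp_pow_iff A j).1, (sp_pow_iff A j).2]
    have hOR : OR F (2 * n + 1) (4 * t) := by
      rcases psp_two_r_abs h2 (sympB n F) (sympB_isAlt (F := F) n)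
        (sympB_nondegenerate (F := F) n).1 (finrank_symp_space (F := F) n) ht ht2 htq _
        (isoB_mulVecLin A) hord with hE | ⟨d, hd, hOR⟩
      · obtain ⟨d, hd, hOR⟩ := OR_of_Er h2 ht ht2 htq hE
        have h3 := OR_pad (OR_add hOR (OR_two_four F h2)) (D := 2 * n + 1) (by omega)
        rwa [hcop.lcm_eq_mul, mul_comm t 4] at h3
      · exact OR_pad hOR (by omega)
    obtain ⟨z, hz⟩ := omega_of_OR h2 hn (by have := ht.pos; omega) hOR
    exact ⟨z, by rw [hz, four_mul_div_gcd t]⟩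

end main

end Cfsg.Agent.Lib.Helper99.PGB
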